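import Groth.Agent.BGFpqcLib.Rep
import Groth.Agent.SchDesc.Effective
import Groth.Prelude.Def_QuotSh
import Mathlib.CategoryTheory.Limits.Types.Pullbacks

/-!
# Points of an fpqc quotient sheaf of an equivalence relation of schemes
-/

set_option autoImplicit false
set_option backward.isDefEq.respectTransparency false
set_option backward.isDefEq.respectTransparency.types false
set_option linter.style.haveILetI false

universe u

open CategoryTheory CategoryTheory.Limits AlgebraicGeometry Opposite MonoidalCategory CartesianMonoidalCategory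

namespace Groth.Agent.GraphQuotLib

variable {S : Scheme.{u}}

/-- The presheaf of points. -/
noncomputable abbrev pyon (S : Scheme.{u}) : Over S ⥤ (Over S)ᵒᵖ ⥤ Type (u + 1) :=
  yoneda ⋙ (Functor.whiskeringRight _ _ _).obj uliftFunctor.{u + 1, u}

/-- A pair of maps is an equivalence relation on points. -/
structure IsEqv {R U : Over S} (s t : R ⟶ U) : Prop where
  injective : ∀ (T : Over S) (r r' : T ⟶ R), r ≫ s = r' ≫ s → r ≫ t = r' ≫ t → r = r'
  equivalence : ∀ (T : Over S),
    Equivalence (fun a b : T ⟶ U => ∃ r : T ⟶ R, r ≫ s = a ∧ r ≫ t = b)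

theorem isEqv_of_isEquivalenceRelation {R U : Over S} (s t : R ⟶ U) [IsEquivalenceRelation s t] :
    IsEqv s t := by
  obtain ⟨e⟩ := IsEquivalenceRelation.nonempty_equivalenceRelation (p₁ := s) (p₂ := t)
  exact
    { injective := fun T r r' h1 h2 => e.right_cancellation r r' h1 h2
      equivalence := fun T =>
        { refl := fun a => ⟨a ≫ e.r, by rw [Category.assoc, e.reflexivity₁, Category.comp_id],
            by rw [Category.assoc, e.reflexivity₂, Category.comp_id]⟩
          symm := fun {a b} ⟨r, h1, h2⟩ => ⟨r ≫ e.s, by rw [Category.assoc, e.symmetry₁, h2],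
            by rw [Category.assoc, e.symmetry₂, h1]⟩
          trans := fun {a b c} ⟨r, h1, h2⟩ ⟨r', h3, h4⟩ =>
            ⟨e.isLimit.lift (PullbackCone.mk r r' (by rw [h2, h3])) ≫ e.t,
            by
              rw [Category.assoc, e.transitivity₁, ← Category.assoc]
              exact (congrArg (· ≫ s) (e.isLimit.fac _ WalkingCospan.left)).trans h1,
            by
              rw [Category.assoc, e.transitivity₂, ← Category.assoc]
              exact (congrArg (· ≫ t) (e.isLimit.fac _ WalkingCospan.right)).trans h4⟩ } }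

variable {R U : Over S} {s t : R ⟶ U}

theorem isPullback_pre (h : IsEqv s t) :
    IsPullback ((pyon S).map s) ((pyon S).map t) (coequalizer.π ((pyon S).map s) ((pyon S).map t))
      (coequalizer.π ((pyon S).map s) ((pyon S).map t)) := by
  let rs := (pyon S).map s
  let rt := (pyon S).map t
  refine IsPullback.of_forall_isPullback_app fun T => ?_
  rw [Types.isPullback_iff]
  refine ⟨?_, fun x y ⟨h1, h2⟩ => ?_, fun a b hab => ?_⟩
  · exact congrArg (fun φ => φ.app T) (coequalizer.condition rs rt)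
  · exact ULift.ext _ _ (h.injective T.unop x.down y.down (congrArg ULift.down h1) (congrArg ULift.down h2))
  · let Setd : Setoid (T.unop ⟶ U) := ⟨_, h.equivalence T.unop⟩
    let hc := isColimitCoforkMapOfIsColimit ((evaluation _ _).obj T) (coequalizer.condition rs rt)
      (coequalizerIsCoequalizer rs rt)
    let q : ((pyon S).obj U).obj T ⟶ ULift.{u + 1} (Quotient Setd) :=
      ↾fun a => (⟨Quotient.mk Setd (a : ULift.{u + 1} (T.unop ⟶ U)).down⟩ : ULift.{u + 1} (Quotient Setd))
    have hq : ((evaluation _ _).obj T).map rs ≫ q = ((evaluation _ _).obj T).map rt ≫ q := by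
      ext r
      exact (Quotient.sound (s := Setd) (a := r.down ≫ s) (b := r.down ≫ t) ⟨r.down, rfl, rfl⟩)
    obtain ⟨d, hd⟩ := Cofork.IsColimit.desc' hc q hq
    have e : q a = q b := by
      rw [← hd]
      exact congrArg (fun z => d z) hab
    obtain ⟨r, hr1, hr2⟩ := Quotient.exact (congrArg ULift.down e)
    exact ⟨⟨r⟩, ULift.ext _ _ hr1, ULift.ext _ _ hr2⟩

theorem isPullback_quot (h : IsEqv s t) :
    IsPullback (QuotSh.repMap Scheme.fpqcPrecoverage s) (QuotSh.repMap Scheme.fpqcPrecoverage t)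
      (QuotSh.quotπ Scheme.fpqcPrecoverage s t) (QuotSh.quotπ Scheme.fpqcPrecoverage s t) := by
  let G := presheafToSheaf (QuotSh.J Scheme.fpqcPrecoverage S) (Type (u + 1))
  have h1 := (isPullback_pre h).map G
  let c := PreservesCoequalizer.iso G ((pyon S).map s) ((pyon S).map t)
  exact IsPullback.of_iso h1 (Iso.refl _) (Iso.refl _) (Iso.refl _) c.symm
    (by simp; rfl) (by simp; rfl)
    ((map_π_preserves_coequalizer_inv G _ _).trans (Category.id_comp _).symm)
    ((map_π_preserves_coequalizer_inv G _ _).trans (Category.id_comp _).symm)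

theorem repMap_comp {A B C : Over S} (f : A ⟶ B) (g : B ⟶ C) :
    QuotSh.repMap Scheme.fpqcPrecoverage f ≫ QuotSh.repMap Scheme.fpqcPrecoverage g =
      QuotSh.repMap Scheme.fpqcPrecoverage (f ≫ g) := by
  rw [← Functor.map_comp, ← Functor.whiskerRight_comp, ← yoneda.map_comp]

theorem repMap_surjective {A B : Over S}
    (φ : QuotSh.rep Scheme.fpqcPrecoverage A ⟶ QuotSh.rep Scheme.fpqcPrecoverage B) :
    ∃ f : A ⟶ B, QuotSh.repMap Scheme.fpqcPrecoverage f = φ := by
  haveI : (QuotSh.J Scheme.fpqcPrecoverage S).Subcanonical :=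
    inferInstanceAs (Scheme.fpqcTopology.over S).Subcanonical
  let e := QuotSh.repIsoUliftYoneda Scheme.fpqcPrecoverage B
  obtain ⟨f, hf⟩ := ((QuotSh.J Scheme.fpqcPrecoverage S).uliftYoneda.{u + 1}).map_surjective
    ((QuotSh.repIsoUliftYoneda Scheme.fpqcPrecoverage A).inv ≫ φ ≫ e.hom)
  refine ⟨f, ?_⟩
  have hnat : QuotSh.repMap Scheme.fpqcPrecoverage f ≫ e.hom =
      (QuotSh.repIsoUliftYoneda Scheme.fpqcPrecoverage A).hom ≫
        ((QuotSh.J Scheme.fpqcPrecoverage S).uliftYoneda.{u + 1}).map f := by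
    simp only [e, QuotSh.repIsoUliftYoneda, Iso.symm_hom]
    rw [Iso.eq_inv_comp, ← Category.assoc, Iso.comp_inv_eq]
    exact (sheafificationNatIso (QuotSh.J Scheme.fpqcPrecoverage S) (Type (u + 1))).hom.naturality
      (((QuotSh.J Scheme.fpqcPrecoverage S).uliftYoneda.{u + 1}).map f) |>.symm
  rw [hf, Iso.hom_inv_id_assoc] at hnat
  exact (cancel_mono e.hom).1 hnat

/-- Points with equal classes are related. -/
theorem exists_rel (h : IsEqv s t) {V : Over S} (a b : V ⟶ U)
    (e : QuotSh.repMap Scheme.fpqcPrecoverage a ≫ QuotSh.quotπ Scheme.fpqcPrecoverage s t =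
      QuotSh.repMap Scheme.fpqcPrecoverage b ≫ QuotSh.quotπ Scheme.fpqcPrecoverage s t) :
    ∃ r : V ⟶ R, r ≫ s = a ∧ r ≫ t = b := by
  have hp := isPullback_quot h
  obtain ⟨r, hr⟩ := repMap_surjective (hp.lift _ _ e)
  have hinj : ∀ {f g : V ⟶ U}, QuotSh.repMap Scheme.fpqcPrecoverage f =
      QuotSh.repMap Scheme.fpqcPrecoverage g → f = g := by
    intro f g hfg
    haveI : (QuotSh.J Scheme.fpqcPrecoverage S).Subcanonical :=
      inferInstanceAs (Scheme.fpqcTopology.over S).Subcanonical
    apply ((QuotSh.J Scheme.fpqcPrecoverage S).uliftYoneda.{u + 1}).map_injective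
    have hn : ∀ k : V ⟶ U, QuotSh.repMap Scheme.fpqcPrecoverage k ≫
        (QuotSh.repIsoUliftYoneda Scheme.fpqcPrecoverage U).hom =
        (QuotSh.repIsoUliftYoneda Scheme.fpqcPrecoverage V).hom ≫
          ((QuotSh.J Scheme.fpqcPrecoverage S).uliftYoneda.{u + 1}).map k := fun k => by
      simp only [QuotSh.repIsoUliftYoneda, Iso.symm_hom]
      rw [Iso.eq_inv_comp, ← Category.assoc, Iso.comp_inv_eq]
      exact (sheafificationNatIso (QuotSh.J Scheme.fpqcPrecoverage S) (Type (u + 1))).hom.naturality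
        (((QuotSh.J Scheme.fpqcPrecoverage S).uliftYoneda.{u + 1}).map k) |>.symm
    rw [← cancel_epi (QuotSh.repIsoUliftYoneda Scheme.fpqcPrecoverage V).hom, ← hn, ← hn, hfg]
  refine ⟨r, hinj ?_, hinj ?_⟩
  · rw [← repMap_comp, hr, hp.lift_fst]
  · rw [← repMap_comp, hr, hp.lift_snd]

/-- A map out of a representable sheaf is an element. -/
noncomputable def homEquivElt (V : Over S) (Q : QuotSh.Sh Scheme.fpqcPrecoverage S) :
    (QuotSh.rep Scheme.fpqcPrecoverage V ⟶ Q) ≃ Q.obj.obj (op V) :=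
  ((sheafificationAdjunction _ _).homEquiv _ _).trans uliftYonedaEquiv.{u + 1}

theorem homEquivElt_comp {V W : Over S} (g : W ⟶ V) (Q : QuotSh.Sh Scheme.fpqcPrecoverage S)
    (f : QuotSh.rep Scheme.fpqcPrecoverage V ⟶ Q) :
    homEquivElt W Q (QuotSh.repMap Scheme.fpqcPrecoverage g ≫ f) = Q.obj.map g.op (homEquivElt V Q f) := by
  change uliftYonedaEquiv.{u + 1} ((sheafificationAdjunction _ _).homEquiv _ _ (_ ≫ f)) = _
  rw [Adjunction.homEquiv_naturality_left]
  exact (uliftYonedaEquiv_naturality ((sheafificationAdjunction _ _).homEquiv _ _ f) g.op).symm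

theorem mem_singleton_cover {V W : Over S} (c : W ⟶ V) [SchDesc.IsFpqc c.left] :
    Sieve.generate (Presieve.singleton c) ∈ QuotSh.J Scheme.fpqcPrecoverage S V := by
  rw [GrothendieckTopology.mem_over_iff]
  refine GrothendieckTopology.superset_covering _ ?_
    (Precoverage.generate_mem_toGrothendieck
      (show Presieve.singleton c.left ∈ Scheme.fpqcPrecoverage V.left from ?_))
  · rw [Sieve.generate_le_iff]
    rintro _ _ ⟨⟩
    exact (Sieve.overEquiv_iff _ _).mpr ⟨W, Over.homMk (𝟙 _) (by simp), c, ⟨⟩,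
      Over.OverMorphism.ext (Category.id_comp _)⟩
  · refine ⟨?_, ?_⟩
    · rw [← PreZeroHypercover.presieve₀_singleton, Scheme.presieve₀_mem_qcPrecoverage_iff]
      exact SchDesc.IsFpqc.qcc
    · rw [← Presieve.ofArrows_pUnit.{0}]
      exact (c.left.cover (P := @Flat) inferInstance).mem₀

/-- Maps out of a representable sheaf are determined after one fpqc covering. -/
theorem hom_ext_cover {V W : Over S} {Q : QuotSh.Sh Scheme.fpqcPrecoverage S} (c : W ⟶ V)
    [SchDesc.IsFpqc c.left] {f g : QuotSh.rep Scheme.fpqcPrecoverage V ⟶ Q}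
    (h : QuotSh.repMap Scheme.fpqcPrecoverage c ≫ f = QuotSh.repMap Scheme.fpqcPrecoverage c ≫ g) :
    f = g := by
  apply (homEquivElt V Q).injective
  refine (((isSheaf_iff_isSheaf_of_type _ _).mp Q.property).isSheafFor _
    (mem_singleton_cover c)).isSeparatedFor.ext ?_
  rintro Y _ ⟨⟩
  rw [← homEquivElt_comp, ← homEquivElt_comp, h]

/-- A section of the quotient lifts to the scheme after one fpqc covering. -/
theorem exists_lift (T : Over S)
    (σ : QuotSh.rep Scheme.fpqcPrecoverage T ⟶ QuotSh.quot Scheme.fpqcPrecoverage s t) :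
    ∃ (W : Over S) (c : W ⟶ T) (u : W ⟶ U), SchDesc.IsFpqc c.left ∧
      QuotSh.repMap Scheme.fpqcPrecoverage u ≫ QuotSh.quotπ Scheme.fpqcPrecoverage s t =
        QuotSh.repMap Scheme.fpqcPrecoverage c ≫ σ := by
  haveI : (QuotSh.J Scheme.fpqcPrecoverage S).Subcanonical :=
    inferInstanceAs (Scheme.fpqcTopology.over S).Subcanonical
  let Q := QuotSh.quot Scheme.fpqcPrecoverage s t
  let π := QuotSh.quotπ Scheme.fpqcPrecoverage s t
  haveI : Epi π := by unfold π QuotSh.quotπ; infer_instance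
  haveI : Sheaf.IsLocallySurjective π := (Sheaf.isLocallySurjective_iff_epi π).2 inferInstance
  obtain ⟨I, Xs, f, hf, hfR⟩ := BGFpqcLib.exists_family (U := T)
    (R := Presheaf.imageSieve π.hom (homEquivElt T Q σ))
    (Presheaf.imageSieve_mem (QuotSh.J Scheme.fpqcPrecoverage S) π.hom (U := op T) (homEquivElt T Q σ))
  let Ti : I → Over S := fun i => Over.mk (f i ≫ T.hom)
  have hlift : ∀ i, ∃ a : Ti i ⟶ U, QuotSh.repMap Scheme.fpqcPrecoverage a ≫ π =
      QuotSh.repMap Scheme.fpqcPrecoverage (Over.homMk (f i) rfl : Ti i ⟶ T) ≫ σ := fun i => by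
    obtain ⟨x, hx⟩ := hfR i
    obtain ⟨φ, rfl⟩ := (homEquivElt (Ti i) _).surjective x
    obtain ⟨a, rfl⟩ := repMap_surjective φ
    refine ⟨a, (homEquivElt (Ti i) Q).injective ?_⟩
    rw [homEquivElt_comp (Over.homMk (f i) rfl : Ti i ⟶ T) Q σ]
    refine Eq.trans ?_ hx
    change uliftYonedaEquiv.{u + 1} ((sheafificationAdjunction _ _).homEquiv _ _ (_ ≫ π)) = _
    rw [Adjunction.homEquiv_naturality_right]
    rfl
  choose a ha using hlift
  let W : Over S := Over.mk (Sigma.desc f ≫ T.hom)
  let c : W ⟶ T := Over.homMk (Sigma.desc f) rfl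
  haveI : SchDesc.IsFpqc c.left := SchDesc.isFpqc_sigmaDesc (X := Xs) (f := f) hf
  let ji : ∀ i, Ti i ⟶ W := fun i => Over.homMk (Sigma.ι Xs i) (by simp [W, Ti])
  have hjc : ∀ i, ji i ≫ c = Over.homMk (f i) rfl := fun i => Over.OverMorphism.ext (Sigma.ι_desc f i)
  let u : W ⟶ U := Over.homMk (Sigma.desc fun i => (a i).left) (Sigma.hom_ext _ _ fun i => by
    simp [W]
    rfl)
  have hju : ∀ i, ji i ≫ u = a i := fun i => Over.OverMorphism.ext (Sigma.ι_desc _ i)
  refine ⟨W, c, u, inferInstance, (homEquivElt W Q).injective ?_⟩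
  have hcov : Sieve.generate (Presieve.ofArrows Ti ji) ∈ QuotSh.J Scheme.fpqcPrecoverage S W := by
    rw [GrothendieckTopology.mem_over_iff]
    refine Scheme.fpqcPrecoverage.toGrothendieck.superset_covering ?_
      (Precoverage.generate_mem_toGrothendieck (Scheme.zariskiPrecoverage_le_fpqcPrecoverage _
        (sigmaOpenCover Xs).mem₀))
    rintro W' h ⟨_, k, _, ⟨i⟩, rfl⟩
    rw [Sieve.overEquiv_iff]
    exact ⟨Ti i, Over.homMk k (by
      change k ≫ f i ≫ T.hom = _
      exact (congrArg (k ≫ ·) ((congrArg (· ≫ T.hom) (Sigma.ι_desc f i).symm).trans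
        (Category.assoc _ _ _))).trans (Category.assoc _ _ _).symm), ji i, ⟨i⟩, Over.OverMorphism.ext rfl⟩
  refine (((isSheaf_iff_isSheaf_of_type _ _).mp Q.property).isSheafFor _ hcov).isSeparatedFor.ext ?_
  rintro Y _ ⟨i⟩
  rw [← homEquivElt_comp, ← homEquivElt_comp]
  congr 1
  rw [← Category.assoc, ← Category.assoc, repMap_comp, repMap_comp, hju, hjc]
  exact ha i

end Groth.Agent.GraphQuotLib
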