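import Groth.Agent.GraphQuotLib.Pts
import Groth.Agent.FpqcDesc.Basic
import Groth.Agent.ASp.Fpqc

/-!
# The subscheme attached to a point of a quotient sheaf with closed or open graph
-/

set_option autoImplicit false
set_option backward.isDefEq.respectTransparency false
set_option backward.isDefEq.respectTransparency.types false
set_option linter.style.haveILetI false

universe u

open CategoryTheory CategoryTheory.Limits AlgebraicGeometry Opposite MonoidalCategory CartesianMonoidalCategory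

namespace Groth.Agent.GraphQuotLib

variable {S : Scheme.{u}} {R U : Over S}

/-- A property descends along fpqc covering morphisms. -/
theorem prop_descend (P : MorphismProperty Scheme.{u}) [P.IsStableUnderBaseChange] [IsZariskiLocalAtTarget P]
    [P.DescendsAlong (@Surjective ⊓ @Flat ⊓ @QuasiCompact)]
    {X B Y Y' : Scheme.{u}} {p : X ⟶ B} [SchDesc.IsFpqc p] {g : Y ⟶ B} {g' : Y' ⟶ X} {e : Y' ⟶ Y}
    (h : IsPullback e g' g p) (hg' : P g') : P g := by
  let 𝒰 : B.OpenCover := B.openCoverOfIsOpenCover (fun V : B.affineOpens => (V.1 : B.Opens))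
    (top_le_iff.mp fun b _ => by
      obtain ⟨V, hV, hbV, -⟩ := exists_isAffineOpen_mem_and_subset (U := ⊤)
        (show b ∈ (⊤ : B.Opens) from trivial)
      exact TopologicalSpace.Opens.mem_iSup.mpr ⟨⟨V, hV⟩, hbV⟩)
  refine IsZariskiLocalAtTarget.of_openCover (P := P) 𝒰 fun (V : B.affineOpens) => ?_
  obtain ⟨Q, q, l, _, _, _, hql, hl, hls, hlq⟩ := SchDesc.IsFpqc.exists_affine p V.2
  show P (pullback.snd g V.1.ι)
  have h2 : P (pullback.snd g' q) := MorphismProperty.pullback_snd (P := P) _ _ hg'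
  have h1 := (IsPullback.of_hasPullback g' q).paste_horiz h
  rw [hql] at h1
  let top : pullback g' q ⟶ pullback g V.1.ι :=
    pullback.lift (pullback.fst g' q ≫ e) (pullback.snd g' q ≫ l) (by
      rw [Category.assoc, h.w, pullback.condition_assoc, hql, Category.assoc])
  have ht₁ : top ≫ pullback.fst g V.1.ι = pullback.fst g' q ≫ e := pullback.lift_fst _ _ _
  have ht₂ : top ≫ pullback.snd g V.1.ι = pullback.snd g' q ≫ l := pullback.lift_snd _ _ _
  have h3 : IsPullback top (pullback.snd g' q) (pullback.snd g V.1.ι) l :=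
    IsPullback.of_right (by rw [ht₁]; exact h1) ht₂ (IsPullback.of_hasPullback g V.1.ι)
  exact MorphismProperty.of_isPullback_of_descendsAlong (P := P)
    (Q := @Surjective ⊓ @Flat ⊓ @QuasiCompact) h3.flip ⟨⟨hls, hl⟩, hlq⟩ h2

theorem lifts_eq {Y X : Scheme.{u}} (j : Y ⟶ X) [Mono j] {T : Scheme.{u}} {x : T ⟶ X}
    (v w : Desc.Lifts (Over.mk j) x) : v = w :=
  Subtype.ext ((cancel_mono j).1 (v.2.trans w.2.symm))

/-- The descent datum of a monomorphism whose points are stable. -/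
noncomputable def monoDD {Y X B : Scheme.{u}} (p : X ⟶ B) (j : Y ⟶ X) [Mono j]
    (hst : ∀ ⦃T : Scheme.{u}⦄ (x₀ x₁ : T ⟶ X), x₀ ≫ p = x₁ ≫ p →
      (∃ v, v ≫ j = x₀) → ∃ v, v ≫ j = x₁) : Desc.SchDD p where
  obj := Over.mk j
  φ T x₀ x₁ h :=
    { toFun := fun v => ⟨(hst x₀ x₁ h ⟨v.1, v.2⟩).choose, (hst x₀ x₁ h ⟨v.1, v.2⟩).choose_spec⟩
      invFun := fun v => ⟨(hst x₁ x₀ h.symm ⟨v.1, v.2⟩).choose, (hst x₁ x₀ h.symm ⟨v.1, v.2⟩).choose_spec⟩
      left_inv := fun v => lifts_eq j _ _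
      right_inv := fun v => lifts_eq j _ _ }
  φ_natural T T' g x₀ x₁ h h' v v' hv := by
    refine congrArg Subtype.val (lifts_eq j _ ⟨_, ?_⟩)
    rw [Category.assoc]
    exact congrArg (g ≫ ·) (hst x₀ x₁ h ⟨v.1, v.2⟩).choose_spec
  φ_self T x v := lifts_eq j _ _
  φ_comp T x₀ x₁ x₂ h₀₁ h₁₂ v := lifts_eq j _ _

theorem isPullback_whisker {W T : Over S} (c : W ⟶ T) (U : Over S) :
    IsPullback (snd U W) (U ◁ c) c (snd U T) := by
  refine ⟨⟨(whiskerLeft_snd _ _).symm⟩, ⟨PullbackCone.IsLimit.mk _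
    (fun k => lift (k.snd ≫ fst U T) k.fst) (fun k => lift_snd _ _) (fun k => ?_) (fun k m h1 h2 => ?_)⟩⟩
  · apply hom_ext
    · rw [Category.assoc, whiskerLeft_fst, lift_fst]
    · rw [Category.assoc, whiskerLeft_snd, lift_snd_assoc]; exact k.condition
  · apply hom_ext
    · rw [lift_fst, ← h2, Category.assoc, whiskerLeft_fst]
    · rw [lift_snd]; exact h1

theorem isFpqc_whisker {W T : Over S} (c : W ⟶ T) [SchDesc.IsFpqc c.left] (U : Over S) :
    SchDesc.IsFpqc (U ◁ c).left :=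
  haveI : SchDesc.IsFpqc ((Over.forget S).map c) := ‹_›
  SchDesc.IsFpqc.of_isPullback ((isPullback_whisker c U).map (Over.forget S))

variable (s t : R ⟶ U)

/-- The class of `a` is the restriction of `σ` along `b`. -/
def InClass {T V : Over S}
    (σ : QuotSh.rep Scheme.fpqcPrecoverage T ⟶ QuotSh.quot Scheme.fpqcPrecoverage s t)
    (a : V ⟶ U) (b : V ⟶ T) : Prop :=
  QuotSh.repMap Scheme.fpqcPrecoverage a ≫ QuotSh.quotπ Scheme.fpqcPrecoverage s t =
    QuotSh.repMap Scheme.fpqcPrecoverage b ≫ σ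

variable {s t} {T : Over S}
  {σ : QuotSh.rep Scheme.fpqcPrecoverage T ⟶ QuotSh.quot Scheme.fpqcPrecoverage s t}

theorem InClass.comp {V V' : Over S} {a : V ⟶ U} {b : V ⟶ T} (h : InClass s t σ a b) (g : V' ⟶ V) :
    InClass s t σ (g ≫ a) (g ≫ b) := by
  rw [InClass, ← repMap_comp, ← repMap_comp, Category.assoc, Category.assoc, show _ = _ from h]

theorem class_comp_eq {V : Over S} (r : V ⟶ R) :
    QuotSh.repMap Scheme.fpqcPrecoverage (r ≫ s) ≫ QuotSh.quotπ Scheme.fpqcPrecoverage s t =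
      QuotSh.repMap Scheme.fpqcPrecoverage (r ≫ t) ≫ QuotSh.quotπ Scheme.fpqcPrecoverage s t := by
  rw [← repMap_comp, ← repMap_comp, Category.assoc, Category.assoc, QuotSh.quot_condition]

/-- The graph subscheme of a point: its points are the pairs in the class. -/
theorem exists_sub (he : IsEqv s t) [Flat s.left] [Surjective s.left] [QuasiCompact s.left]
    (P : MorphismProperty Scheme.{u}) [P.IsStableUnderBaseChange] [IsZariskiLocalAtTarget P]
    [P.DescendsAlong (@Surjective ⊓ @Flat ⊓ @QuasiCompact)]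
    (hPm : ∀ {X Y : Scheme.{u}} (f : X ⟶ Y), P f → Mono f)
    (heff : ∀ {X B : Scheme.{u}} (p : X ⟶ B) [SchDesc.IsFpqc p] (D : Desc.SchDD p),
      P D.obj.hom → Nonempty (SchDesc.Quot D ⊤))
    (hc : P (lift t s).left) (σ : QuotSh.rep Scheme.fpqcPrecoverage T ⟶ QuotSh.quot Scheme.fpqcPrecoverage s t) :
    ∃ (Z : Over S) (i : Z ⟶ U ⊗ T), P i.left ∧
      Flat (i ≫ snd U T).left ∧ Surjective (i ≫ snd U T).left ∧ QuasiCompact (i ≫ snd U T).left ∧
      ∀ (V : Over S) (a : V ⟶ U) (b : V ⟶ T), (∃ z : V ⟶ Z, z ≫ i = lift a b) ↔ InClass s t σ a b := by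
  classical
  obtain ⟨W, c, u, hcq, hu⟩ := exists_lift T σ
  haveI := hcq
  let ZW : Over S := pullback s u
  let pR : ZW ⟶ R := pullback.fst s u
  let pW : ZW ⟶ W := pullback.snd s u
  let j : ZW ⟶ U ⊗ W := lift (pR ≫ t) pW
  have hpts : ∀ {V : Over S} (x : V ⟶ U ⊗ W),
      (∃ v, v ≫ j = x) ↔ InClass s t σ (x ≫ fst U W) (x ≫ snd U W ≫ c) := by
    intro V x
    constructor
    · rintro ⟨v, rfl⟩
      have e1 : (v ≫ j) ≫ fst U W = (v ≫ pR) ≫ t := by simp [j]
      have e2 : (v ≫ j) ≫ snd U W ≫ c = (v ≫ pW) ≫ c := by simp [j]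
      rw [InClass, e1, e2, ← class_comp_eq, Category.assoc, pullback.condition, ← Category.assoc,
        ← repMap_comp, ← repMap_comp, Category.assoc, Category.assoc, hu,
        ← repMap_comp (v ≫ pW) c, ← repMap_comp v pW]
      simp only [Category.assoc]
      rfl
    · intro h
      obtain ⟨r, hr1, hr2⟩ := exists_rel he ((x ≫ snd U W) ≫ u) (x ≫ fst U W) (by
        rw [show _ = _ from h, ← repMap_comp (x ≫ snd U W) u, Category.assoc, hu, ← Category.assoc,
          repMap_comp, Category.assoc])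
      refine ⟨pullback.lift r (x ≫ snd U W) hr1, hom_ext _ _ ?_ ?_⟩
      · simp only [j, pR, Category.assoc, lift_fst, pullback.lift_fst_assoc]
        exact hr2
      · simp only [j, pW, Category.assoc, lift_snd, pullback.lift_snd]
  -- the property of `j`
  have hsq : IsPullback j pR (U ◁ u) (lift t s) := by
    refine ⟨⟨?_⟩, ⟨PullbackCone.IsLimit.mk _
      (fun k => pullback.lift k.snd (k.fst ≫ snd U W) ?_) (fun k => ?_) (fun k => pullback.lift_fst _ _ _)
      (fun k m h1 h2 => ?_)⟩⟩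
    · apply hom_ext
      · simp [j]
      · simp [j, pR, pW, pullback.condition]
    · have h := k.condition =≫ snd U U
      simpa using h.symm
    · apply hom_ext
      · have h := k.condition =≫ fst U U
        simpa [j, pR] using h.symm
      · simp [j, pW]
    · apply pullback.hom_ext
      · rw [pullback.lift_fst]; exact h2
      · rw [pullback.lift_snd, ← h1, Category.assoc, lift_snd]
  have hjP : P j.left := MorphismProperty.of_isPullback (hsq.map (Over.forget S)).flip hc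
  haveI : Mono j.left := hPm _ hjP
  have hWs := (IsPullback.of_hasPullback s u).map (Over.forget S)
  haveI : Flat pW.left := MorphismProperty.of_isPullback (P := @Flat) hWs ‹_›
  haveI : Surjective pW.left := MorphismProperty.of_isPullback (P := @Surjective) hWs ‹_›
  haveI : QuasiCompact pW.left := MorphismProperty.of_isPullback (P := @QuasiCompact) hWs ‹_›
  -- descent
  let p := (U ◁ c).left
  haveI : SchDesc.IsFpqc p := isFpqc_whisker c U
  have hst : ∀ ⦃A : Scheme.{u}⦄ (x₀ x₁ : A ⟶ (U ⊗ W).left), x₀ ≫ p = x₁ ≫ p →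
      (∃ v, v ≫ j.left = x₀) → ∃ v, v ≫ j.left = x₁ := by
    rintro A x₀ x₁ h ⟨v, rfl⟩
    let V : Over S := Over.mk (x₁ ≫ (U ⊗ W).hom)
    let y₁ : V ⟶ U ⊗ W := Over.homMk x₁ rfl
    let w : V ⟶ ZW := Over.homMk v (by
      show v ≫ ZW.hom = x₁ ≫ (U ⊗ W).hom
      rw [← Over.w j, ← Over.w (U ◁ c)]
      simpa [p] using h =≫ (U ⊗ T).hom)
    have e : (w ≫ j) ≫ (U ◁ c) = y₁ ≫ (U ◁ c) := Over.OverMorphism.ext h
    have hin := (hpts (w ≫ j)).1 ⟨w, rfl⟩
    have ef := e =≫ fst U T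
    have es := e =≫ snd U T
    simp only [Category.assoc, whiskerLeft_fst, whiskerLeft_snd] at ef es
    rw [Category.assoc, Category.assoc, ef, es] at hin
    obtain ⟨v', hv'⟩ := (hpts y₁).2 hin
    exact ⟨v'.left, congrArg CommaMorphism.left hv'⟩
  obtain ⟨Q⟩ := heff p (monoDD p j.left hst) hjP
  let Z : Over S := Over.mk (Q.str ≫ (U ⊗ T).hom)
  let i : Z ⟶ U ⊗ T := Over.homMk Q.str rfl
  let π : ZW.left ⟶ Z.left := (Scheme.topIso ZW.left).inv ≫ Q.π
  have hpb : IsPullback π j.left i.left p := by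
    refine (Q.isPullback.flip).of_iso (Scheme.topIso ZW.left) (.refl _) (.refl _) (.refl _) ?_ ?_ ?_ ?_
    · simp [π]
    · simp [monoDD, ← Scheme.topIso_hom]
    · simp [i]
    · simp
  have hiP : P i.left := prop_descend P hpb hjP
  haveI : Mono i.left := hPm _ hiP
  haveI hπq : SchDesc.IsFpqc π := SchDesc.IsFpqc.of_isPullback hpb.flip
  have hbig : IsPullback π pW.left (i ≫ snd U T).left c.left := by
    have h2 := ((isPullback_whisker c U).map (Over.forget S)).flip
    have h := hpb.paste_vert h2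
    simp only [Over.forget_map] at h
    rwa [← Over.comp_left, ← Over.comp_left, show j ≫ snd U W = pW from lift_snd _ _] at h
  refine ⟨Z, i, hiP, prop_descend @Flat hbig ‹_›, prop_descend @Surjective hbig ‹_›, ?_, ?_⟩
  · haveI := FpqcDesc.quasiCompact_descends.{u}
    exact prop_descend @QuasiCompact hbig ‹_›
  intro V a b
  constructor
  · rintro ⟨z, hz⟩
    let πo : ZW ⟶ Z := Over.homMk π (by
      show π ≫ i.left ≫ (U ⊗ T).hom = ZW.hom
      rw [reassoc_of% hpb.w, Over.w (U ◁ c), Over.w j])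
    haveI : SchDesc.IsFpqc πo.left := hπq
    have hπi : πo ≫ i = j ≫ (U ◁ c) := Over.OverMorphism.ext hpb.w
    have h0 : InClass s t σ (i ≫ fst U T) (i ≫ snd U T) := hom_ext_cover πo (by
      rw [← Category.assoc, ← Category.assoc, repMap_comp, repMap_comp, ← Category.assoc,
        ← Category.assoc, hπi, Category.assoc, Category.assoc, whiskerLeft_fst, whiskerLeft_snd]
      exact (hpts j).1 ⟨𝟙 _, Category.id_comp _⟩)
    have h := h0.comp z
    rwa [← Category.assoc, ← Category.assoc, hz, lift_fst, lift_snd] at h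
  · intro h
    let V' : Over S := pullback b c
    let k : V' ⟶ V := pullback.fst b c
    haveI : SchDesc.IsFpqc ((Over.forget S).map c) := hcq
    haveI : SchDesc.IsFpqc k.left :=
      SchDesc.IsFpqc.of_isPullback ((IsPullback.of_hasPullback b c).map (Over.forget S)).flip
    obtain ⟨v, hv⟩ := (hpts (lift (k ≫ a) (pullback.snd b c))).2 (by
      rw [lift_fst, lift_snd_assoc, ← pullback.condition]
      exact h.comp k)
    have hk : (v.left ≫ π) ≫ i.left = k.left ≫ (lift a b).left := by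
      rw [Category.assoc, hpb.w, ← Category.assoc, ← Over.comp_left, hv, ← Over.comp_left, ← Over.comp_left]
      congr 1
      apply hom_ext <;> simp [k, pullback.condition]
    let g : V.left ⟶ Z.left := EffectiveEpi.desc k.left (v.left ≫ π) (fun g₁ g₂ hg => by
      rw [← cancel_mono i.left, Category.assoc g₁, Category.assoc g₂, hk, ← Category.assoc, hg, Category.assoc])
    have hg : k.left ≫ g = v.left ≫ π := EffectiveEpi.fac _ _ _
    have hgi : g ≫ i.left = (lift a b).left := by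
      rw [← cancel_epi k.left, ← Category.assoc, hg, hk]
    exact ⟨Over.homMk g (by
      show g ≫ i.left ≫ (U ⊗ T).hom = V.hom
      rw [reassoc_of% hgi, Over.w]), Over.OverMorphism.ext hgi⟩

theorem stable_of_pts {Z : Over S} {i : Z ⟶ U ⊗ T}
    (hi : ∀ (V : Over S) (a : V ⟶ U) (b : V ⟶ T), (∃ z : V ⟶ Z, z ≫ i = lift a b) ↔ InClass s t σ a b)
    (T' : Over S) (r : T' ⟶ R ⊗ T) :
    (∃ z : T' ⟶ Z, z ≫ i = r ≫ (s ▷ T)) ↔ ∃ z : T' ⟶ Z, z ≫ i = r ≫ (t ▷ T) := by
  have e : ∀ k : R ⟶ U, r ≫ (k ▷ T) = lift ((r ≫ fst R T) ≫ k) (r ≫ snd R T) := fun k => by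
    apply hom_ext <;> simp
  rw [e, e, hi, hi, InClass, InClass, class_comp_eq]

theorem related_of_pts (he : IsEqv s t) {Z : Over S} {i : Z ⟶ U ⊗ T}
    (hi : ∀ (V : Over S) (a : V ⟶ U) (b : V ⟶ T), (∃ z : V ⟶ Z, z ≫ i = lift a b) ↔ InClass s t σ a b)
    (T' : Over S) (z₁ z₂ : T' ⟶ Z) (h : z₁ ≫ i ≫ snd U T = z₂ ≫ i ≫ snd U T) :
    ∃ r : T' ⟶ R, r ≫ s = z₁ ≫ i ≫ fst U T ∧ r ≫ t = z₂ ≫ i ≫ fst U T := by
  have h0 : ∀ z : T' ⟶ Z, InClass s t σ (z ≫ i ≫ fst U T) (z ≫ i ≫ snd U T) := fun z =>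
    (hi _ _ _).1 ⟨z, by apply hom_ext <;> simp⟩
  exact exists_rel he _ _ ((h0 z₁).trans (by rw [h]; exact (h0 z₂).symm))

theorem eq_of_pts {Z : Over S} {i : Z ⟶ U ⊗ T}
    (hi : ∀ (V : Over S) (a : V ⟶ U) (b : V ⟶ T), (∃ z : V ⟶ Z, z ≫ i = lift a b) ↔ InClass s t σ a b) :
    InClass s t σ (i ≫ fst U T) (i ≫ snd U T) :=
  (hi _ _ _).1 ⟨𝟙 _, by apply hom_ext <;> simp⟩

/-- A stable covering subscheme in the class of a point has exactly the points in the class. -/
theorem pts_of_conds (he : IsEqv s t) {Z : Over S} (i : Z ⟶ U ⊗ T) [Mono i.left]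
    (hst : ∀ (T' : Over S) (r : T' ⟶ R ⊗ T),
      (∃ z : T' ⟶ Z, z ≫ i = r ≫ (s ▷ T)) ↔ (∃ z : T' ⟶ Z, z ≫ i = r ≫ (t ▷ T)))
    [Flat (i ≫ snd U T).left] [Surjective (i ≫ snd U T).left] [QuasiCompact (i ≫ snd U T).left]
    (hcl : InClass s t σ (i ≫ fst U T) (i ≫ snd U T))
    (V : Over S) (a : V ⟶ U) (b : V ⟶ T) : (∃ z : V ⟶ Z, z ≫ i = lift a b) ↔ InClass s t σ a b := by
  constructor
  · rintro ⟨z, hz⟩
    have h := hcl.comp z
    rwa [← Category.assoc, ← Category.assoc, hz, lift_fst, lift_snd] at h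
  · intro h
    let q := i ≫ snd U T
    let V' : Over S := pullback b q
    let k : V' ⟶ V := pullback.fst b q
    let z' : V' ⟶ Z := pullback.snd b q
    haveI : SchDesc.IsFpqc ((Over.forget S).map q) := SchDesc.IsFpqc.of_quasiCompact q.left
    haveI : SchDesc.IsFpqc k.left :=
      SchDesc.IsFpqc.of_isPullback ((IsPullback.of_hasPullback b q).map (Over.forget S)).flip
    have hb : k ≫ b = z' ≫ i ≫ snd U T := pullback.condition
    obtain ⟨r, hr1, hr2⟩ := exists_rel he (z' ≫ i ≫ fst U T) (k ≫ a) (by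
      refine (hcl.comp z').trans ?_
      rw [← hb]
      exact (h.comp k).symm)
    obtain ⟨w, hw⟩ := (hst V' (lift r (k ≫ b))).1 ⟨z', by
      apply hom_ext <;> simp [hr1, hb]⟩
    have hk : w.left ≫ i.left = k.left ≫ (lift a b).left := by
      rw [← Over.comp_left, ← Over.comp_left, hw]
      congr 1
      apply hom_ext <;> simp [hr2]
    let g : V.left ⟶ Z.left := EffectiveEpi.desc k.left w.left (fun g₁ g₂ hg => by
      rw [← cancel_mono i.left, Category.assoc g₁, Category.assoc g₂, hk, ← Category.assoc, hg, Category.assoc])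
    have hg : k.left ≫ g = w.left := EffectiveEpi.fac _ _ _
    have hgi : g ≫ i.left = (lift a b).left := by
      rw [← cancel_epi k.left, ← Category.assoc, hg, hk]
    exact ⟨Over.homMk g (by rw [← Over.w i, reassoc_of% hgi, Over.w]), Over.OverMorphism.ext hgi⟩

/-- Subobjects with the same points are isomorphic. -/
theorem iso_of_pts {Z Z' : Over S} (i : Z ⟶ U ⊗ T) (i' : Z' ⟶ U ⊗ T) [Mono i.left] [Mono i'.left]
    (hi : ∀ (V : Over S) (a : V ⟶ U) (b : V ⟶ T), (∃ z : V ⟶ Z, z ≫ i = lift a b) ↔ InClass s t σ a b)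
    (hi' : ∀ (V : Over S) (a : V ⟶ U) (b : V ⟶ T), (∃ z : V ⟶ Z', z ≫ i' = lift a b) ↔ InClass s t σ a b) :
    ∃ e : Z ≅ Z', e.hom ≫ i' = i := by
  haveI : Mono i := (Over.forget S).mono_of_mono_map (show Mono i.left from ‹_›)
  haveI : Mono i' := (Over.forget S).mono_of_mono_map (show Mono i'.left from ‹_›)
  obtain ⟨f, hf⟩ := (hi' Z _ _).2 (eq_of_pts hi)
  obtain ⟨g, hg⟩ := (hi Z' _ _).2 (eq_of_pts hi')
  replace hf : f ≫ i' = i := hf.trans (by apply hom_ext <;> simp)
  replace hg : g ≫ i = i' := hg.trans (by apply hom_ext <;> simp)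
  exact ⟨⟨f, g, (cancel_mono i).1 (by rw [Category.assoc, hg, hf, Category.id_comp]),
    (cancel_mono i').1 (by rw [Category.assoc, hf, hg, Category.id_comp])⟩, hf⟩

end Groth.Agent.GraphQuotLib
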